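import Cfsg.Agent.Lib.Helper12.TCG.WPres

/-!
A presentation of the sixfold cover of the group of Suzuki on five elements of order seven: every relator says that a conjugate of a generator
is a power of a generator, or that the seventh power of a generator is trivial (helper12).
-/

set_option autoImplicit false
set_option maxRecDepth 100000

namespace Cfsg.Agent.Lib.Helper12.SuzM.Pres5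

open Cfsg.Agent.Lib.Helper12.TC Cfsg.Agent.Lib.Helper12.TCG

/-- the base words: the relators, the letters with their inverses, the empty word -/
def baseL : List (List ℕ) :=
  [[0, 0, 0, 0, 0, 0, 0],
   [2, 2, 2, 2, 2, 2, 2],
   [4, 4, 4, 4, 4, 4, 4],
   [6, 6, 6, 6, 6, 6, 6],
   [8, 8, 8, 8, 8, 8, 8],
   [0, 0, 3, 0, 3, 0, 3, 1, 2, 0, 2, 1, 2, 1, 2, 1, 1, 3],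
   [3, 0, 0, 3, 3, 0, 0, 3, 0, 2, 1, 1, 2, 2, 1, 1, 2, 1],
   [2, 1, 1, 2, 2, 1, 1, 2, 0, 3, 0, 0, 3, 3, 0, 0, 3, 1],
   [2, 0, 3, 0, 3, 1, 2, 2, 0, 3, 3, 0, 2, 1, 2, 1, 3, 1],
   [3, 1, 2, 1, 2, 1, 2, 2, 0, 3, 3, 0, 3, 0, 3, 0, 2, 1],
   [0, 2, 0, 0, 3, 1, 1, 1, 2, 0, 0, 0, 2, 1, 1, 3, 1, 3, 3],
   [1, 2, 0, 0, 0, 2, 1, 1, 2, 0, 0, 3, 1, 1, 1, 3, 0, 3, 3],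
   [0, 3, 1, 1, 3, 0, 3, 1, 2, 0, 2, 1, 2, 0, 0, 2, 1, 3, 3],
   [1, 3, 1, 1, 2, 0, 0, 0, 2, 1, 1, 1, 3, 0, 0, 2, 0, 3, 3],
   [0, 3, 1, 1, 1, 3, 0, 0, 2, 1, 1, 2, 0, 0, 0, 2, 1, 3, 3],
   [1, 2, 0, 0, 0, 3, 0, 0, 2, 1, 1, 2, 1, 1, 1, 3, 0, 3, 3],
   [2, 1, 3, 3, 1, 2, 1, 3, 0, 2, 0, 3, 0, 2, 2, 0, 3, 1, 1],
   [3, 0, 2, 2, 2, 1, 2, 2, 0, 3, 3, 0, 3, 3, 3, 1, 2, 1, 1],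
   [3, 1, 3, 3, 0, 2, 2, 2, 0, 3, 3, 3, 1, 2, 2, 0, 2, 1, 1],
   [1, 3, 0, 3, 1, 1, 3, 0, 2, 1, 2, 0, 0, 2, 1, 2, 0, 2, 2, 2],
   [1, 2, 2, 1, 1, 2, 0, 3, 0, 2, 1, 2, 1, 3, 0, 0, 3, 3, 0, 3],
   [2, 2, 2, 0, 3, 3, 1, 3, 0, 2, 0, 2, 2, 1, 3, 3, 3, 0, 0, 0],
   [3, 0, 2, 1, 1, 2, 2, 1, 3, 0, 2, 0, 3, 3, 0, 0, 3, 1, 2, 1],
   [2, 1, 1, 2, 2, 1, 3, 0, 3, 0, 2, 1, 2, 0, 3, 3, 0, 0, 3, 1],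
   [2, 2, 1, 1, 2, 0, 3, 0, 3, 0, 2, 1, 2, 1, 3, 0, 0, 3, 3, 1],
   [3, 1, 2, 2, 1, 1, 2, 0, 3, 0, 2, 1, 3, 0, 0, 3, 3, 0, 2, 1],
   [2, 2, 1, 1, 3, 3, 3, 3, 3, 0, 2, 2, 2, 2, 2, 0, 0, 3, 3, 1],
   [2, 0, 3, 3, 0, 0, 3, 1, 2, 0, 3, 0, 2, 1, 1, 2, 2, 1, 3, 1],
   [3, 1, 2, 1, 3, 3, 1, 2, 0, 3, 0, 2, 2, 0, 3, 0, 2, 0, 0, 0],
   [2, 2, 1, 3, 3, 3, 1, 2, 0, 3, 0, 2, 2, 2, 0, 3, 3, 0, 0, 0],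
   [3, 1, 3, 1, 3, 1, 3, 1, 4, 0, 2, 0, 2, 0, 2, 0, 2, 5],
   [1, 2, 0, 0, 5, 1, 5, 1, 4, 0, 4, 0, 4, 1, 1, 3, 0, 3],
   [1, 1, 2, 4, 0, 4, 0, 4, 1, 5, 1, 5, 3, 0, 0, 2, 2, 2],
   [0, 0, 4, 1, 4, 0, 2, 0, 3, 1, 5, 0, 5, 1, 1, 4, 4, 4],
   [1, 1, 2, 2, 1, 1, 2, 2, 4, 3, 3, 0, 0, 3, 3, 0, 0, 5],
   [3, 1, 2, 1, 2, 1, 2, 2, 4, 3, 3, 0, 3, 0, 3, 0, 2, 5],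
   [1, 4, 0, 4, 2, 2, 2, 2, 4, 3, 3, 3, 3, 5, 1, 5, 0, 4],
   [2, 0, 4, 1, 1, 1, 5, 2, 4, 0, 0, 0, 5, 1, 3, 1, 1, 1],
   [1, 1, 5, 1, 1, 4, 0, 5, 2, 4, 1, 5, 0, 0, 4, 0, 0, 5],
   [0, 4, 0, 4, 0, 2, 1, 1, 2, 0, 0, 3, 1, 5, 1, 5, 1, 5, 5],
   [3, 3, 4, 0, 5, 2, 2, 1, 2, 0, 3, 3, 4, 1, 5, 2, 2, 0, 0],
   [0, 4, 0, 4, 0, 3, 0, 0, 2, 1, 1, 2, 1, 5, 1, 5, 1, 5, 5],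
   [0, 2, 1, 5, 1, 5, 0, 0, 2, 1, 1, 4, 0, 4, 0, 3, 1, 5, 5],
   [0, 3, 4, 1, 2, 0, 3, 4, 1, 2, 0, 5, 2, 1, 3, 0, 5, 2, 1, 3],
   [4, 2, 1, 1, 2, 5, 0, 0, 0, 2, 1, 1, 1, 4, 3, 0, 0, 3, 5, 1],
   [0, 4, 1, 3, 4, 2, 0, 4, 0, 2, 1, 5, 1, 3, 5, 2, 0, 5, 1, 5],
   [1, 3, 4, 1, 3, 5, 0, 4, 0, 2, 1, 5, 1, 4, 2, 0, 5, 2, 0, 3],
   [5, 2, 1, 3, 0, 5, 2, 1, 3, 0, 2, 0, 3, 4, 1, 2, 0, 3, 4, 1],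
   [1, 2, 2, 4, 0, 3, 3, 1, 2, 0, 3, 0, 2, 2, 1, 5, 3, 3, 0, 2],
   [5, 2, 1, 3, 4, 3, 3, 1, 5, 0, 4, 0, 2, 2, 5, 2, 0, 3, 4, 0],
   [5, 1, 5, 1, 5, 1, 5, 1, 5, 0, 4, 0, 4, 0, 4, 0, 4, 0, 4, 1],
   [0, 4, 3, 0, 3, 1, 2, 0, 5, 0, 4, 1, 3, 0, 2, 1, 2, 5, 1, 3],
   [1, 1, 1, 4, 3, 0, 0, 3, 5, 0, 4, 2, 1, 1, 2, 5, 0, 0, 0, 3],
   [4, 4, 0, 4, 7, 5, 1, 1, 4, 0, 0, 4, 6, 5, 1, 5, 5, 2],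
   [0, 4, 7, 0, 5, 6, 1, 1, 6, 0, 0, 7, 4, 1, 6, 5, 1, 7],
   [0, 0, 3, 0, 3, 0, 3, 1, 6, 0, 2, 1, 2, 1, 2, 1, 1, 7],
   [7, 2, 5, 6, 3, 0, 3, 1, 2, 0, 2, 1, 2, 7, 4, 3, 6, 1],
   [0, 6, 1, 4, 7, 0, 5, 1, 4, 0, 4, 1, 6, 5, 0, 7, 1, 5],
   [2, 4, 0, 7, 2, 1, 6, 0, 2, 1, 7, 0, 3, 6, 1, 5, 3, 1],
   [1, 1, 4, 7, 0, 5, 6, 0, 4, 1, 7, 4, 1, 6, 5, 0, 0, 5],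
   [2, 4, 7, 0, 5, 6, 1, 3, 6, 2, 0, 7, 4, 1, 6, 5, 3, 7],
   [6, 2, 0, 2, 0, 7, 2, 2, 0, 3, 3, 6, 1, 3, 1, 3, 7, 3],
   [3, 0, 5, 6, 1, 4, 7, 2, 0, 3, 6, 5, 0, 7, 4, 1, 2, 1],
   [3, 0, 5, 6, 1, 4, 7, 2, 4, 3, 6, 5, 0, 7, 4, 1, 2, 5],
   [3, 5, 0, 7, 4, 1, 6, 2, 6, 3, 7, 0, 5, 6, 1, 4, 2, 7],
   [3, 1, 4, 7, 0, 5, 6, 2, 0, 3, 7, 4, 1, 6, 5, 0, 2, 1],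
   [3, 1, 4, 7, 0, 5, 6, 2, 4, 3, 7, 4, 1, 6, 5, 0, 2, 5],
   [3, 1, 4, 7, 0, 5, 6, 2, 6, 3, 7, 4, 1, 6, 5, 0, 2, 7],
   [4, 6, 5, 0, 7, 4, 1, 5, 6, 4, 0, 5, 6, 1, 4, 7, 5, 7],
   [4, 3, 0, 3, 0, 3, 0, 5, 6, 4, 1, 2, 1, 2, 1, 2, 5, 7],
   [4, 7, 4, 1, 6, 5, 0, 5, 0, 4, 1, 4, 7, 0, 5, 6, 5, 1],
   [4, 7, 4, 1, 6, 5, 0, 5, 6, 4, 1, 4, 7, 0, 5, 6, 5, 7],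
   [0, 6, 0, 2, 6, 4, 4, 1, 4, 0, 5, 5, 7, 3, 1, 7, 1, 2, 2],
   [6, 4, 1, 6, 4, 7, 1, 5, 6, 4, 0, 6, 5, 7, 0, 5, 7, 5, 5],
   [5, 0, 6, 2, 2, 4, 2, 5, 2, 4, 3, 5, 3, 3, 7, 1, 4, 3, 3],
   [2, 0, 5, 5, 6, 1, 3, 7, 0, 2, 1, 6, 2, 0, 7, 4, 4, 1, 3, 1],
   [2, 1, 6, 0, 7, 2, 1, 6, 0, 6, 1, 7, 0, 3, 6, 1, 7, 0, 3, 7],
   [2, 4, 7, 2, 6, 2, 4, 7, 2, 6, 3, 6, 5, 3, 7, 3, 6, 5, 3, 7],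
   [6, 5, 2, 0, 2, 2, 1, 6, 2, 4, 3, 7, 0, 3, 3, 1, 3, 4, 7, 0],
   [2, 2, 1, 7, 0, 3, 6, 1, 5, 2, 4, 0, 7, 2, 1, 6, 0, 3, 3, 1],
   [2, 1, 6, 2, 1, 1, 2, 4, 6, 0, 7, 5, 3, 0, 0, 3, 7, 0, 3, 5],
   [9, 0, 5, 8, 1, 4, 0, 9, 4, 1, 8, 5],
   [8, 1, 4, 9, 0, 4, 1, 8, 5, 0, 9, 5],
   [9, 4, 1, 8, 5, 0, 4, 9, 0, 5, 8, 1],
   [0, 5, 8, 1, 4, 8, 5, 0, 9, 4, 1, 9],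
   [8, 5, 0, 9, 4, 0, 5, 8, 1, 4, 9, 1],
   [6, 9, 6, 9, 6, 8, 7, 8, 7, 8, 7, 9],
   [8, 7, 8, 7, 8, 7, 4, 6, 9, 6, 9, 6, 9, 5],
   [5, 0, 7, 4, 1, 6, 8, 7, 0, 5, 6, 1, 4, 9],
   [4, 1, 8, 5, 0, 9, 6, 8, 1, 4, 9, 0, 5, 7],
   [9, 6, 9, 0, 5, 5, 1, 2, 0, 4, 4, 1, 8, 7, 8, 5, 5],
   [8, 7, 2, 1, 6, 9, 0, 3, 4, 2, 1, 8, 7, 0, 3, 6, 9, 5],
   [0, 0, 3, 3, 0, 0, 3, 3, 8, 2, 2, 1, 1, 2, 2, 1, 1, 9],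
   [7, 8, 2, 4, 9, 6, 5, 3, 0, 2, 4, 7, 8, 5, 3, 9, 6, 1],
   [7, 8, 2, 4, 9, 6, 5, 3, 4, 2, 4, 7, 8, 5, 3, 9, 6, 5],
   [7, 8, 2, 4, 9, 6, 5, 3, 8, 2, 4, 7, 8, 5, 3, 9, 6, 9],
   [5, 9, 6, 8, 8, 2, 4, 3, 8, 2, 5, 3, 9, 9, 7, 8, 4, 3],
   [2, 1, 6, 5, 0, 7, 4, 3, 8, 2, 5, 6, 1, 4, 7, 0, 3, 9],
   [6, 9, 2, 5, 8, 7, 4, 3, 8, 2, 5, 6, 9, 4, 3, 8, 7, 9],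
   [8, 7, 2, 5, 6, 9, 4, 3, 0, 2, 5, 8, 7, 4, 3, 6, 9, 1],
   [8, 7, 2, 5, 6, 9, 4, 3, 4, 2, 5, 8, 7, 4, 3, 6, 9, 5],
   [2, 0, 5, 6, 1, 4, 7, 3, 8, 2, 6, 5, 0, 7, 4, 1, 3, 9],
   [7, 8, 7, 2, 7, 8, 7, 3, 0, 2, 6, 9, 6, 3, 6, 9, 6, 3],
   [2, 8, 7, 8, 7, 8, 7, 3, 0, 2, 6, 9, 6, 9, 6, 9, 3, 1],
   [2, 8, 7, 8, 7, 8, 7, 3, 4, 2, 6, 9, 6, 9, 6, 9, 3, 5],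
   [2, 8, 7, 8, 7, 8, 7, 3, 6, 2, 6, 9, 6, 9, 6, 9, 3, 7],
   [0, 1],
   [1, 0],
   [2, 3],
   [3, 2],
   [4, 5],
   [5, 4],
   [6, 7],
   [7, 6],
   [8, 9],
   [9, 8],
   []]

/-- the inverse letters -/
def cIV : ℕ := 18364758479815910145

/-- the presented group -/
abbrev Grp : Type := WPres.Grp 10 baseL

/-- the letters as elements of the presented group -/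
def v : ℕ → Grp := WPres.v 10 baseL

theorem hiv : ivK cIV 10 = true := by decide

theorem hlet : lettersK 10 baseL = true := by decide

theorem hbase : ∀ b ∈ baseL, wprod v b = 1 := WPres.hbase 10 baseL

theorem hvge : ∀ s, ¬ s < 10 → v s = 1 := WPres.hvge 10 baseL

theorem hvinv : ∀ s < 10, v (invS cIV s) = (v s)⁻¹ :=
  WPres.hvinv 10 baseL cIV (by decide)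

theorem hgen : ∀ γ : Grp, γ ∈ Subgroup.closure {y | ∃ x < 10, y = v x} := WPres.hgen 10 baseL

theorem hlift {N : ℕ} (f : ℕ → Equiv.Perm (Fin N)) (hf : ∀ s < 10, f (invS cIV s) = (f s)⁻¹)
    (hw : ∀ b ∈ baseL, wprod f b = 1) :
    ∃ ρ : Grp →* Equiv.Perm (Fin N), ∀ x < 10, ρ (v x) = f x :=
  WPres.hliftPerm 10 baseL hlet cIV f hf hw

/-- the universal property -/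
theorem hliftG {K : Type*} [Group K] (f : ℕ → K) (hw : ∀ b ∈ baseL, wprod f b = 1) :
    ∃ ρ : Grp →* K, ∀ x < 10, ρ (v x) = f x :=
  WPres.hlift 10 baseL hlet f hw

end Cfsg.Agent.Lib.Helper12.SuzM.Pres5
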