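import Cfsg.Agent.Lib.Helper12.QLift
import Cfsg.Agent.Lib.Helper12.SuzM.Pres2
import Cfsg.Agent.Lib.Helper12.SuzM.Pres3
import Cfsg.Agent.Lib.Helper12.SuzM.Pres4
import Cfsg.Agent.Lib.Helper12.SuzM.Pres5

/-!
The shapes of the relators of the presentations on elements of order seven (generated, helper12).
-/

set_option autoImplicit false
set_option maxRecDepth 100000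

namespace Cfsg.Agent.Lib.Helper12.SuzM.Certs

open Cfsg.Agent.Lib.Helper12.QLift

/-- the shapes of the relators -/
def certs : List Cert :=
  [⟨[0, 2, 1, 2, 1, 2, 1, 1], 1, 3, 1⟩,
   ⟨[2, 1, 1, 2, 2, 1, 1, 2], 0, 1, 1⟩,
   ⟨[3, 0, 0, 3, 3, 0, 0, 3], 0, 1, 1⟩,
   ⟨[3, 3, 0, 2, 1, 2, 1, 3], 0, 1, 1⟩,
   ⟨[3, 3, 0, 3, 0, 3, 0, 2], 0, 1, 1⟩,
   ⟨[0, 0, 0, 2, 1, 1, 3, 1], 1, 3, 2⟩,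
   ⟨[0, 0, 3, 1, 1, 1, 3, 0], 1, 3, 2⟩,
   ⟨[0, 2, 1, 2, 0, 0, 2, 1], 1, 3, 2⟩,
   ⟨[1, 1, 1, 3, 0, 0, 2, 0], 1, 3, 2⟩,
   ⟨[1, 1, 2, 0, 0, 0, 2, 1], 1, 3, 2⟩,
   ⟨[1, 1, 2, 1, 1, 1, 3, 0], 1, 3, 2⟩,
   ⟨[2, 0, 3, 0, 2, 2, 0, 3], 0, 1, 2⟩,
   ⟨[3, 3, 0, 3, 3, 3, 1, 2], 0, 1, 2⟩,
   ⟨[3, 3, 3, 1, 2, 2, 0, 2], 0, 1, 2⟩,
   ⟨[1, 2, 0, 0, 2, 1, 2, 0], 1, 2, 3⟩,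
   ⟨[1, 2, 1, 3, 0, 0, 3, 3, 0], 1, 3, 1⟩,
   ⟨[2, 0, 2, 2, 1, 3, 3, 3], 0, 0, 3⟩,
   ⟨[2, 0, 3, 3, 0, 0, 3, 1, 2], 0, 1, 1⟩,
   ⟨[2, 1, 2, 0, 3, 3, 0, 0, 3], 0, 1, 1⟩,
   ⟨[2, 1, 2, 1, 3, 0, 0, 3, 3], 0, 1, 1⟩,
   ⟨[2, 1, 3, 0, 0, 3, 3, 0, 2], 0, 1, 1⟩,
   ⟨[2, 2, 2, 2, 2, 0, 0, 3, 3], 0, 1, 1⟩,
   ⟨[3, 0, 2, 1, 1, 2, 2, 1, 3], 0, 1, 1⟩,
   ⟨[3, 0, 2, 2, 0, 3, 0, 2], 0, 0, 3⟩,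
   ⟨[3, 0, 2, 2, 2, 0, 3, 3], 0, 0, 3⟩,
   ⟨[0, 2, 0, 2, 0, 2, 0, 2], 2, 5, 1⟩,
   ⟨[0, 4, 0, 4, 1, 1, 3, 0], 2, 3, 1⟩,
   ⟨[1, 5, 1, 5, 3, 0, 0], 2, 2, 3⟩,
   ⟨[3, 1, 5, 0, 5, 1, 1], 0, 4, 3⟩,
   ⟨[3, 3, 0, 0, 3, 3, 0, 0], 2, 5, 1⟩,
   ⟨[3, 3, 0, 3, 0, 3, 0, 2], 2, 5, 1⟩,
   ⟨[3, 3, 3, 3, 5, 1, 5, 0], 2, 4, 1⟩,
   ⟨[4, 0, 0, 0, 5, 1, 3], 1, 1, 3⟩,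
   ⟨[4, 1, 5, 0, 0, 4, 0, 0], 1, 5, 1⟩,
   ⟨[0, 0, 3, 1, 5, 1, 5, 1], 1, 5, 2⟩,
   ⟨[0, 3, 3, 4, 1, 5, 2, 2], 1, 0, 2⟩,
   ⟨[1, 1, 2, 1, 5, 1, 5, 1], 1, 5, 2⟩,
   ⟨[1, 1, 4, 0, 4, 0, 3, 1], 1, 5, 2⟩,
   ⟨[0, 5, 2, 1, 3, 0, 5, 2, 1], 1, 3, 1⟩,
   ⟨[1, 1, 1, 4, 3, 0, 0, 3, 5], 1, 1, 1⟩,
   ⟨[1, 5, 1, 3, 5, 2, 0, 5, 1], 1, 5, 1⟩,
   ⟨[1, 5, 1, 4, 2, 0, 5, 2, 0], 1, 3, 1⟩,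
   ⟨[2, 0, 3, 4, 1, 2, 0, 3, 4], 0, 1, 1⟩,
   ⟨[3, 0, 2, 2, 1, 5, 3, 3, 0], 0, 2, 1⟩,
   ⟨[4, 0, 2, 2, 5, 2, 0, 3, 4], 0, 0, 1⟩,
   ⟨[4, 0, 4, 0, 4, 0, 4, 0, 4], 0, 1, 1⟩,
   ⟨[4, 1, 3, 0, 2, 1, 2, 5, 1], 0, 3, 1⟩,
   ⟨[4, 2, 1, 1, 2, 5, 0, 0, 0], 0, 3, 1⟩,
   ⟨[0, 0, 4, 6, 5, 1, 5, 5], 2, 2, 1⟩,
   ⟨[0, 0, 7, 4, 1, 6, 5, 1], 3, 7, 1⟩,
   ⟨[0, 2, 1, 2, 1, 2, 1, 1], 3, 7, 1⟩,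
   ⟨[0, 2, 1, 2, 7, 4, 3, 6], 1, 1, 1⟩,
   ⟨[0, 4, 1, 6, 5, 0, 7, 1], 2, 5, 1⟩,
   ⟨[1, 7, 0, 3, 6, 1, 5, 3], 1, 1, 1⟩,
   ⟨[1, 7, 4, 1, 6, 5, 0, 0], 2, 5, 1⟩,
   ⟨[2, 0, 7, 4, 1, 6, 5, 3], 3, 7, 1⟩,
   ⟨[3, 3, 6, 1, 3, 1, 3, 7], 0, 3, 1⟩,
   ⟨[3, 6, 5, 0, 7, 4, 1, 2], 0, 1, 1⟩,
   ⟨[3, 6, 5, 0, 7, 4, 1, 2], 2, 5, 1⟩,
   ⟨[3, 7, 0, 5, 6, 1, 4, 2], 3, 7, 1⟩,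
   ⟨[3, 7, 4, 1, 6, 5, 0, 2], 0, 1, 1⟩,
   ⟨[3, 7, 4, 1, 6, 5, 0, 2], 2, 5, 1⟩,
   ⟨[3, 7, 4, 1, 6, 5, 0, 2], 3, 7, 1⟩,
   ⟨[4, 0, 5, 6, 1, 4, 7, 5], 3, 7, 1⟩,
   ⟨[4, 1, 2, 1, 2, 1, 2, 5], 3, 7, 1⟩,
   ⟨[4, 1, 4, 7, 0, 5, 6, 5], 0, 1, 1⟩,
   ⟨[4, 1, 4, 7, 0, 5, 6, 5], 3, 7, 1⟩,
   ⟨[0, 5, 5, 7, 3, 1, 7, 1], 2, 2, 2⟩,
   ⟨[4, 0, 6, 5, 7, 0, 5, 7], 3, 5, 2⟩,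
   ⟨[4, 3, 5, 3, 3, 7, 1, 4], 1, 3, 2⟩,
   ⟨[1, 6, 2, 0, 7, 4, 4, 1, 3], 1, 1, 1⟩,
   ⟨[1, 7, 0, 3, 6, 1, 7, 0, 3], 3, 7, 1⟩,
   ⟨[3, 6, 5, 3, 7, 3, 6, 5, 3], 3, 7, 1⟩,
   ⟨[3, 7, 0, 3, 3, 1, 3, 4, 7], 2, 0, 1⟩,
   ⟨[4, 0, 7, 2, 1, 6, 0, 3, 3], 1, 1, 1⟩,
   ⟨[7, 5, 3, 0, 0, 3, 7, 0, 3], 0, 5, 1⟩,
   ⟨[0, 9, 4, 1, 8], 2, 5, 1⟩,
   ⟨[1, 8, 5, 0, 9], 2, 5, 1⟩,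
   ⟨[4, 9, 0, 5, 8], 0, 1, 1⟩,
   ⟨[5, 0, 9, 4, 1], 4, 9, 1⟩,
   ⟨[5, 8, 1, 4, 9], 0, 1, 1⟩,
   ⟨[7, 8, 7, 8, 7], 4, 9, 1⟩,
   ⟨[6, 9, 6, 9, 6, 9], 2, 5, 1⟩,
   ⟨[7, 0, 5, 6, 1, 4], 4, 9, 1⟩,
   ⟨[8, 1, 4, 9, 0, 5], 3, 7, 1⟩,
   ⟨[0, 4, 4, 1, 8, 7, 8], 1, 5, 2⟩,
   ⟨[2, 1, 8, 7, 0, 3, 6, 9], 2, 5, 1⟩,
   ⟨[2, 2, 1, 1, 2, 2, 1, 1], 4, 9, 1⟩,
   ⟨[2, 4, 7, 8, 5, 3, 9, 6], 0, 1, 1⟩,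
   ⟨[2, 4, 7, 8, 5, 3, 9, 6], 2, 5, 1⟩,
   ⟨[2, 4, 7, 8, 5, 3, 9, 6], 4, 9, 1⟩,
   ⟨[2, 5, 3, 9, 9, 7, 8, 4], 4, 3, 1⟩,
   ⟨[2, 5, 6, 1, 4, 7, 0, 3], 4, 9, 1⟩,
   ⟨[2, 5, 6, 9, 4, 3, 8, 7], 4, 9, 1⟩,
   ⟨[2, 5, 8, 7, 4, 3, 6, 9], 0, 1, 1⟩,
   ⟨[2, 5, 8, 7, 4, 3, 6, 9], 2, 5, 1⟩,
   ⟨[2, 6, 5, 0, 7, 4, 1, 3], 4, 9, 1⟩,
   ⟨[2, 6, 9, 6, 3, 6, 9, 6], 0, 3, 1⟩,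
   ⟨[2, 6, 9, 6, 9, 6, 9, 3], 0, 1, 1⟩,
   ⟨[2, 6, 9, 6, 9, 6, 9, 3], 2, 5, 1⟩,
   ⟨[2, 6, 9, 6, 9, 6, 9, 3], 3, 7, 1⟩]

/-- the seventh powers of the letters -/
def pows : List (List ℕ) :=
  [[0, 0, 0, 0, 0, 0, 0], [2, 2, 2, 2, 2, 2, 2], [4, 4, 4, 4, 4, 4, 4], [6, 6, 6, 6, 6, 6, 6], [8, 8, 8, 8, 8, 8, 8]]

/-- the letters with their inverses, the empty word -/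
def pairs : List (List ℕ) :=
  [[0, 1], [1, 0], [2, 3], [3, 2], [4, 5], [5, 4], [6, 7], [7, 6], [8, 9], [9, 8], []]

theorem base5_eq : Pres5.baseL = pows ++ (certs.map Cert.word ++ pairs) := by
  decide

theorem shape5 : ∀ b ∈ Pres5.baseL, b = [] ∨ (∃ s, b = [s, flp s]) ∨
    (∃ s, b = List.replicate 7 s) ∨ ∃ c ∈ certs, b = c.word := by
  intro b hb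
  rw [base5_eq, List.mem_append, List.mem_append] at hb
  rcases hb with hb | hb | hb
  · right; right; left
    simp only [pows, List.mem_cons, List.not_mem_nil, or_false] at hb
    rcases hb with rfl | rfl | rfl | rfl | rfl
    · exact ⟨0, rfl⟩
    · exact ⟨2, rfl⟩
    · exact ⟨4, rfl⟩
    · exact ⟨6, rfl⟩
    · exact ⟨8, rfl⟩
  · obtain ⟨c, hc, rfl⟩ := List.mem_map.mp hb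
    exact Or.inr (Or.inr (Or.inr ⟨c, hc, rfl⟩))
  · simp only [pairs, List.mem_cons, List.not_mem_nil, or_false] at hb
    rcases hb with rfl | rfl | rfl | rfl | rfl | rfl | rfl | rfl | rfl | rfl | rfl
    · exact Or.inr (Or.inl ⟨0, rfl⟩)
    · exact Or.inr (Or.inl ⟨1, rfl⟩)
    · exact Or.inr (Or.inl ⟨2, rfl⟩)
    · exact Or.inr (Or.inl ⟨3, rfl⟩)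
    · exact Or.inr (Or.inl ⟨4, rfl⟩)
    · exact Or.inr (Or.inl ⟨5, rfl⟩)
    · exact Or.inr (Or.inl ⟨6, rfl⟩)
    · exact Or.inr (Or.inl ⟨7, rfl⟩)
    · exact Or.inr (Or.inl ⟨8, rfl⟩)
    · exact Or.inr (Or.inl ⟨9, rfl⟩)
    · exact Or.inl rfl

theorem pow5 : ∀ i < 5, List.replicate 7 (2 * i) ∈ Pres5.baseL := by decide

theorem pair5 : ∀ i < 5, [2 * i, 2 * i + 1] ∈ Pres5.baseL := by decide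

theorem pow_all : ∀ s < 10, List.replicate 7 (2 * (s / 2)) ∈ Pres5.baseL := by decide

/-- the relators on the first two generators are relators on the first three -/
theorem base2_sub : ∀ b ∈ Pres2.baseL, b ∈ Pres3.baseL := by decide

/-- the relators on the first three generators are relators on the first four -/
theorem base3_sub : ∀ b ∈ Pres3.baseL, b ∈ Pres4.baseL := by decide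

/-- the relators on the first four generators are relators on all five -/
theorem base4_sub : ∀ b ∈ Pres4.baseL, b ∈ Pres5.baseL := by decide

end Cfsg.Agent.Lib.Helper12.SuzM.Certs
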