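import Cfsg.Agent.Lib.Helper12.SuzM.Order
import Cfsg.Agent.Lib.Helper12.SuzM.Gen
import Cfsg.Agent.Lib.Helper12.TCG.SuzQe65520.Rho
import Cfsg.Agent.Lib.Helper12.M23Ext.TabPerm
import Cfsg.Prelude.Def_KGroupFacts

/-!
The group presented on the five elements of order seven is a stem extension of the group of Suzuki with a cyclic
kernel of order six (helper12).
-/

set_option autoImplicit false
set_option maxRecDepth 100000

namespace Cfsg.Agent.Lib.Helper12.SuzM.Exist

open Cfsg.Agent.Lib.Helper12.TC Cfsg.Agent.Lib.Helper12.TC.Fn Cfsg.Agent.Lib.Helper12.TCG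
  Cfsg.Agent.Lib.Helper12.SuzM Cfsg.Agent.Lib.Helper12.M23Ext

open Cfsg.Agent.Lib.Helper12.SuzM.Model (zw zw_lt)

/-- the central element -/
noncomputable def z : Pres5.Grp := wprod Pres5.v zw

instance finite5 : Finite Pres5.Grp := Order.finite5

theorem phi_z : Model.phi z = 1 := by
  rw [z, Model.phi_wprod zw zw_lt]
  exact Model.wprod_xM_eq_one zw zw_lt Model.zw_fix

theorem rho_d (l : List ℕ) (hl : ∀ s ∈ l, s < 10) (i : Fin SuzQd5346.cN) :
    ((SuzQd5346.rho (wprod Pres5.v l) i : Fin SuzQd5346.cN) : ℕ) = applyW SuzQd5346.TT l i.val :=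
  TabPerm.hom_word Pres5.v SuzQd5346.rho SuzQd5346.rho_gen l hl i

theorem rho_e (l : List ℕ) (hl : ∀ s ∈ l, s < 10) (i : Fin SuzQe65520.cN) :
    ((SuzQe65520.rho (wprod Pres5.v l) i : Fin SuzQe65520.cN) : ℕ) = applyW SuzQe65520.TT l i.val :=
  TabPerm.hom_word Pres5.v SuzQe65520.rho SuzQe65520.rho_gen l hl i

/-- two words which map the first of the 5346 points to different points are different -/
theorem ne_of_apply_d {l₁ l₂ : List ℕ} (h₁ : ∀ s ∈ l₁, s < 10) (h₂ : ∀ s ∈ l₂, s < 10)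
    (h : Nat.beq (applyW SuzQd5346.TT l₁ 0) (applyW SuzQd5346.TT l₂ 0) = false) :
    wprod Pres5.v l₁ ≠ wprod Pres5.v l₂ := by
  intro heq
  have e1 := rho_d l₁ h₁ ⟨0, SuzQd5346.hN0⟩
  have e2 := rho_d l₂ h₂ ⟨0, SuzQd5346.hN0⟩
  rw [heq, e2] at e1
  have h3 : Nat.beq (applyW SuzQd5346.TT l₁ 0) (applyW SuzQd5346.TT l₂ 0) = true := by
    rw [Nat.beq_eq]
    exact e1.symm
  rw [h] at h3
  exact Bool.false_ne_true h3

/-- two words which map the first of the 65520 points to different points are different -/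
theorem ne_of_apply_e {l₁ l₂ : List ℕ} (h₁ : ∀ s ∈ l₁, s < 10) (h₂ : ∀ s ∈ l₂, s < 10)
    (h : Nat.beq (applyW SuzQe65520.TT l₁ 0) (applyW SuzQe65520.TT l₂ 0) = false) :
    wprod Pres5.v l₁ ≠ wprod Pres5.v l₂ := by
  intro heq
  have e1 := rho_e l₁ h₁ ⟨0, SuzQe65520.hN0⟩
  have e2 := rho_e l₂ h₂ ⟨0, SuzQe65520.hN0⟩
  rw [heq, e2] at e1
  have h3 : Nat.beq (applyW SuzQe65520.TT l₁ 0) (applyW SuzQe65520.TT l₂ 0) = true := by
    rw [Nat.beq_eq]
    exact e1.symm
  rw [h] at h3
  exact Bool.false_ne_true h3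

/-- the power of the word -/
def zwp : ℕ → List ℕ
  | 0 => []
  | k + 1 => zw ++ zwp k

theorem zwp_lt : ∀ k, ∀ s ∈ zwp k, s < 10 := by
  intro k
  induction k with
  | zero => intro s hs; exact absurd hs List.not_mem_nil
  | succ k ih =>
    intro s hs
    rw [zwp, List.mem_append] at hs
    rcases hs with hs | hs
    · exact zw_lt s hs
    · exact ih s hs

theorem wprod_zwp (k : ℕ) : wprod Pres5.v (zwp k) = z ^ k := by
  induction k with
  | zero => rw [zwp, wprod_nil, pow_zero]
  | succ k ih => rw [zwp, wprod_append, ih, pow_succ', z]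

theorem z_pow_ne_one : ∀ k, 0 < k → k < 6 → z ^ k ≠ 1 := by
  intro k h0 h6
  rw [← wprod_zwp k, ← wprod_nil Pres5.v]
  interval_cases k
  · exact ne_of_apply_e (zwp_lt 1) (by decide) (by decide +kernel)
  · exact ne_of_apply_d (zwp_lt 2) (by decide) (by decide +kernel)
  · exact ne_of_apply_e (zwp_lt 3) (by decide) (by decide +kernel)
  · exact ne_of_apply_d (zwp_lt 4) (by decide) (by decide +kernel)
  · exact ne_of_apply_e (zwp_lt 5) (by decide) (by decide +kernel)

theorem card_eq_mul {Γ : Type*} [Group Γ] (σ : Γ →* Cfsg.Spor.Suz) (hs : Function.Surjective σ) :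
    Nat.card Γ = 448345497600 * Nat.card σ.ker := by
  have h1 := Subgroup.card_eq_card_quotient_mul_card_subgroup σ.ker
  have e := QuotientGroup.quotientKerEquivOfSurjective σ hs
  rw [Nat.card_congr e.toEquiv, Ord.SuzOrder.card_eq] at h1
  exact h1

/-- the central element as an element of the kernel -/
noncomputable def zK : Model.phi.ker := ⟨z, phi_z⟩

theorem zK_pow (k : ℕ) : ((zK ^ k : Model.phi.ker) : Pres5.Grp) = z ^ k := by
  rw [Subgroup.coe_pow]; rfl

theorem card_ker_le : Nat.card Model.phi.ker ≤ 6 := by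
  have h1 := Order.finite_card_le.2
  rw [card_eq_mul Model.phi Gen.phi_surjective] at h1
  omega

theorem orderOf_zK : orderOf zK = 6 := by
  have hd : orderOf zK ∣ Nat.card Model.phi.ker := orderOf_dvd_natCard zK
  have hpos : 0 < Nat.card Model.phi.ker := Nat.card_pos
  have hle2 := Nat.le_of_dvd hpos hd
  have hle := card_ker_le
  have ho0 : 0 < orderOf zK := orderOf_pos zK
  by_contra hne
  have hlt : orderOf zK < 6 := by omega
  apply z_pow_ne_one (orderOf zK) ho0 hlt
  rw [← zK_pow, pow_orderOf_eq_one]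
  rfl

theorem card_ker : Nat.card Model.phi.ker = 6 := by
  have hd : orderOf zK ∣ Nat.card Model.phi.ker := orderOf_dvd_natCard zK
  have hpos : 0 < Nat.card Model.phi.ker := Nat.card_pos
  have hle2 := Nat.le_of_dvd hpos hd
  have hle := card_ker_le
  rw [orderOf_zK] at hle2
  omega

theorem z_pow_six : z ^ 6 = 1 := by
  rw [← zK_pow, ← orderOf_zK, pow_orderOf_eq_one]
  rfl

theorem zpowers_zK : Subgroup.zpowers zK = ⊤ := by
  apply Subgroup.eq_top_of_card_eq
  rw [Nat.card_zpowers, orderOf_zK, card_ker]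

theorem ker_cases (x : Pres5.Grp) (hx : x ∈ Model.phi.ker) : ∃ j, j < 6 ∧ x = z ^ j := by
  have hmem : (⟨x, hx⟩ : Model.phi.ker) ∈ Subgroup.zpowers zK := by
    rw [zpowers_zK]; exact Subgroup.mem_top _
  obtain ⟨j, hj⟩ := Subgroup.mem_zpowers_iff.mp hmem
  have hj' : z ^ j = x := by
    have := congrArg Subtype.val hj
    rwa [Subgroup.coe_zpow] at this
  have h6 : z ^ (6 : ℤ) = 1 := by exact_mod_cast z_pow_six
  have hred : z ^ j = z ^ (j % 6) := by
    conv_lhs => rw [← Int.emod_add_mul_ediv j 6]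
    rw [zpow_add, zpow_mul, h6, one_zpow, mul_one]
  have hnn : 0 ≤ j % 6 := Int.emod_nonneg j (by norm_num)
  have hlt : j % 6 < 6 := Int.emod_lt_of_pos j (by norm_num)
  refine ⟨(j % 6).toNat, by omega, ?_⟩
  rw [← hj', hred, ← zpow_natCast, Int.toNat_of_nonneg hnn]

/-- the inverse letter -/
theorem v_inv (s : ℕ) (hs : s < 10) : (Pres5.v s)⁻¹ = Pres5.v (QLift.flp s) := by
  have h : [s, QLift.flp s] ∈ Pres5.baseL := by
    interval_cases s <;> decide
  have h2 := Pres5.hbase _ h
  rw [wprod_cons, wprod_cons, wprod_nil, mul_one] at h2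
  exact inv_eq_of_mul_eq_one_right h2

theorem conj_ne (s : ℕ) (hs : s < 10) (j : ℕ) (hj : j < 6) (hj1 : j ≠ 1) :
    Pres5.v s * z * (Pres5.v s)⁻¹ ≠ z ^ j := by
  by_cases hj0 : j = 0
  · rw [hj0, pow_zero]
    intro h
    have h1 := z_pow_ne_one 1 (by norm_num) (by norm_num)
    rw [pow_one] at h1
    exact h1 (conj_eq_one_iff.mp h)
  have key : wprod Pres5.v (s :: (zw ++ [QLift.flp s])) ≠ wprod Pres5.v (zwp j) := by
    interval_cases s <;> interval_cases j <;>
      first
      | exact absurd rfl hj0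
      | exact absurd rfl hj1
      | exact ne_of_apply_d (by decide) (by decide) (by decide +kernel)
      | exact ne_of_apply_e (by decide) (by decide) (by decide +kernel)
  rw [wprod_cons, wprod_append, wprod_cons, wprod_nil, mul_one, wprod_zwp, ← v_inv s hs, ← mul_assoc] at key
  exact key

theorem v_comm_z (s : ℕ) (hs : s < 10) : Pres5.v s * z = z * Pres5.v s := by
  have hx : Pres5.v s * z * (Pres5.v s)⁻¹ ∈ Model.phi.ker :=
    (MonoidHom.normal_ker Model.phi).conj_mem z phi_z (Pres5.v s)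
  obtain ⟨j, hj, h⟩ := ker_cases _ hx
  by_cases hj1 : j = 1
  · rw [hj1, pow_one] at h
    exact mul_inv_eq_iff_eq_mul.mp h
  · exact absurd h (conj_ne s hs j hj hj1)

theorem z_central : z ∈ Subgroup.center Pres5.Grp := by
  have hle : Subgroup.closure {y | ∃ x < 10, y = Pres5.v x} ≤ Subgroup.centralizer {z} := by
    rw [Subgroup.closure_le]
    rintro y ⟨s, hs, rfl⟩
    rw [SetLike.mem_coe, Subgroup.mem_centralizer_iff]
    intro h hh
    rw [Set.mem_singleton_iff] at hh
    rw [hh]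
    exact (v_comm_z s hs).symm
  rw [Subgroup.mem_center_iff]
  intro γ
  have := hle (Pres5.hgen γ)
  rw [Subgroup.mem_centralizer_iff] at this
  exact (this z rfl).symm

theorem v_pow_seven (s : ℕ) (hs : s < 10) : Pres5.v s ^ 7 = 1 := by
  have hev : ∀ i < 5, Pres5.v (2 * i) ^ 7 = 1 := by
    intro i hi
    have h := Pres5.hbase _ (Certs.pow5 i hi)
    rwa [QLift.wprod_replicate] at h
  rcases Nat.even_or_odd' s with ⟨i, rfl | rfl⟩
  · exact hev i (by omega)
  · have h1 : QLift.flp (2 * i + 1) = 2 * i := by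
      unfold QLift.flp; rw [if_neg (by omega)]; omega
    have h2 := v_inv (2 * i + 1) hs
    rw [h1] at h2
    have h3 : Pres5.v (2 * i + 1) = (Pres5.v (2 * i))⁻¹ := by rw [← h2, inv_inv]
    rw [h3, inv_pow, hev i (by omega), inv_one]

theorem pow_seven_mem_commutator (γ : Pres5.Grp) : γ ^ 7 ∈ commutator Pres5.Grp := by
  have h : ∀ γ : Pres5.Grp, (Abelianization.of γ) ^ 7 = 1 := by
    intro γ
    have hγ := Pres5.hgen γ
    induction hγ using Subgroup.closure_induction with
    | mem y hy =>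
      obtain ⟨s, hs, rfl⟩ := hy
      rw [← map_pow, v_pow_seven s hs, map_one]
    | one => rw [map_one, one_pow]
    | mul a b _ _ iha ihb => rw [map_mul, mul_pow, iha, ihb, one_mul]
    | inv a _ iha => rw [map_inv, inv_pow, iha, inv_one]
  have h2 := h γ
  rw [← map_pow] at h2
  rw [← Abelianization.ker_of, MonoidHom.mem_ker]
  exact h2

theorem z_mem_commutator : z ∈ commutator Pres5.Grp := by
  have h : z = z ^ 7 := by
    rw [show (7 : ℕ) = 6 + 1 from rfl, pow_succ, z_pow_six, one_mul]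
  rw [h]
  exact pow_seven_mem_commutator z

theorem phi_stem : Cfsg.IsStemExtension Model.phi := by
  refine ⟨Gen.phi_surjective, ?_, ?_⟩
  · intro x hx
    obtain ⟨j, -, rfl⟩ := ker_cases x hx
    exact pow_mem z_central j
  · intro x hx
    obtain ⟨j, -, rfl⟩ := ker_cases x hx
    exact pow_mem z_mem_commutator j

/-- the group of Suzuki has a finite stem extension with a cyclic kernel of order six -/
theorem exists_stem_six : ∃ (Γ : Type) (_ : Group Γ) (_ : Finite Γ) (σ : Γ →* Cfsg.Spor.Suz),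
    Cfsg.IsStemExtension σ ∧ Nonempty (σ.ker ≃* Multiplicative (ZMod 6)) := by
  refine ⟨Pres5.Grp, inferInstance, finite5, Model.phi, phi_stem, ?_⟩
  have hcyc : IsCyclic Model.phi.ker :=
    isCyclic_iff_exists_zpowers_eq_top.mpr ⟨zK, zpowers_zK⟩
  have e2 := zmodCyclicMulEquiv hcyc
  rw [card_ker] at e2
  exact ⟨e2.symm⟩

end Cfsg.Agent.Lib.Helper12.SuzM.Exist
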