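import Cfsg.Agent.Lib.Helper12.SuzM.ModelDefs

/-!
The tables of the letters on 22880 points, part 3 (generated, helper12).
-/

set_option autoImplicit false
set_option maxRecDepth 100000
set_option Elab.async false

namespace Cfsg.Agent.Lib.Helper12.SuzM.Model

open Cfsg.Agent.Lib.Helper12.TC Cfsg.Agent.Lib.Helper12.TC.Fn Cfsg.Agent.Lib.Helper12.TCG
  Cfsg.Agent.Lib.Helper12.M23Ext Cfsg.Agent.Lib.Helper12.SuzM

theorem c22_6_0 : colEqK SuzQm22880.TT Suzo22880.TT 6 (xw 6) 0 4000 = true := by
  decide +kernel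

theorem c22_6_1 : colEqK SuzQm22880.TT Suzo22880.TT 6 (xw 6) 4000 4000 = true := by
  decide +kernel

theorem c22_6_2 : colEqK SuzQm22880.TT Suzo22880.TT 6 (xw 6) 8000 4000 = true := by
  decide +kernel

theorem c22_6_3 : colEqK SuzQm22880.TT Suzo22880.TT 6 (xw 6) 12000 4000 = true := by
  decide +kernel

theorem c22_6_4 : colEqK SuzQm22880.TT Suzo22880.TT 6 (xw 6) 16000 4000 = true := by
  decide +kernel

theorem c22_6_5 : colEqK SuzQm22880.TT Suzo22880.TT 6 (xw 6) 20000 2880 = true := by
  decide +kernel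

theorem col22_6 : ∀ i < 22880, SuzQm22880.TT 6 i = applyW Suzo22880.TT (xw 6) i := by
  intro i hi
  by_cases h0 : i < 4000
  · exact colEqK_spec c22_6_0 i (by omega) (by omega)
  by_cases h1 : i < 8000
  · exact colEqK_spec c22_6_1 i (by omega) (by omega)
  by_cases h2 : i < 12000
  · exact colEqK_spec c22_6_2 i (by omega) (by omega)
  by_cases h3 : i < 16000
  · exact colEqK_spec c22_6_3 i (by omega) (by omega)
  by_cases h4 : i < 20000
  · exact colEqK_spec c22_6_4 i (by omega) (by omega)
  exact colEqK_spec c22_6_5 i (by omega) (by omega)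

theorem c22_7_0 : colEqK SuzQm22880.TT Suzo22880.TT 7 (xw 7) 0 4000 = true := by
  decide +kernel

theorem c22_7_1 : colEqK SuzQm22880.TT Suzo22880.TT 7 (xw 7) 4000 4000 = true := by
  decide +kernel

theorem c22_7_2 : colEqK SuzQm22880.TT Suzo22880.TT 7 (xw 7) 8000 4000 = true := by
  decide +kernel

theorem c22_7_3 : colEqK SuzQm22880.TT Suzo22880.TT 7 (xw 7) 12000 4000 = true := by
  decide +kernel

theorem c22_7_4 : colEqK SuzQm22880.TT Suzo22880.TT 7 (xw 7) 16000 4000 = true := by
  decide +kernel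

theorem c22_7_5 : colEqK SuzQm22880.TT Suzo22880.TT 7 (xw 7) 20000 2880 = true := by
  decide +kernel

theorem col22_7 : ∀ i < 22880, SuzQm22880.TT 7 i = applyW Suzo22880.TT (xw 7) i := by
  intro i hi
  by_cases h0 : i < 4000
  · exact colEqK_spec c22_7_0 i (by omega) (by omega)
  by_cases h1 : i < 8000
  · exact colEqK_spec c22_7_1 i (by omega) (by omega)
  by_cases h2 : i < 12000
  · exact colEqK_spec c22_7_2 i (by omega) (by omega)
  by_cases h3 : i < 16000
  · exact colEqK_spec c22_7_3 i (by omega) (by omega)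
  by_cases h4 : i < 20000
  · exact colEqK_spec c22_7_4 i (by omega) (by omega)
  exact colEqK_spec c22_7_5 i (by omega) (by omega)

end Cfsg.Agent.Lib.Helper12.SuzM.Model
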