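import Cfsg.Agent.Lib.Helper12.SuzM.ModelCol0
import Cfsg.Agent.Lib.Helper12.SuzM.ModelCol1
import Cfsg.Agent.Lib.Helper12.SuzM.ModelCol2
import Cfsg.Agent.Lib.Helper12.SuzM.ModelCol3
import Cfsg.Agent.Lib.Helper12.SuzM.ModelCol4
import Cfsg.Agent.Lib.Helper12.TCG.SuzQm22880.Perm

/-!
Five elements of order seven of the presented group of Suzuki which satisfy the relators of the presentation on ten
letters: the homomorphism of the presented cover to the group (generated, helper12).
-/

set_option autoImplicit false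
set_option maxRecDepth 100000

namespace Cfsg.Agent.Lib.Helper12.SuzM.Model

open Cfsg.Agent.Lib.Helper12.TC Cfsg.Agent.Lib.Helper12.TC.Fn Cfsg.Agent.Lib.Helper12.TCG
  Cfsg.Agent.Lib.Helper12.M23Ext Cfsg.Agent.Lib.Helper12.SuzM

theorem col22 : ∀ s < 10, ∀ i < 22880, SuzQm22880.TT s i = applyW Suzo22880.TT (xw s) i := by
  intro s hs
  interval_cases s
  · exact col22_0
  · exact col22_1
  · exact col22_2
  · exact col22_3
  · exact col22_4
  · exact col22_5
  · exact col22_6
  · exact col22_7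
  · exact col22_8
  · exact col22_9

theorem rho22_xM : ∀ s < 10, ∀ i : Fin Suzo22880.cN,
    ((Suzo22880.rho (xM s) i : Fin Suzo22880.cN) : ℕ) = SuzQm22880.TT s i.val := by
  intro s hs i
  have h := TabPerm.hom_word gP Suzo22880.rho Suzo22880.rho_gen (xw s) (xw_lt s hs) i
  rw [col22 s hs i.val i.isLt]
  exact h

theorem rels22 : ∀ b ∈ Pres5.baseL, ∀ i < 22880, applyW SuzQm22880.TT b i = i :=
  TabPerm.relsK_spec SuzQm22880.hrels

/-- a word in the letters is trivial in the group if it fixes all the 22880 points -/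
theorem wprod_xM_eq_one (w : List ℕ) (hw : ∀ s ∈ w, s < 10)
    (h : ∀ i < 22880, applyW SuzQm22880.TT w i = i) : wprod xM w = 1 := by
  apply Ord.SuzOrder.rho_injective
  rw [map_one]
  apply Equiv.ext
  intro i
  apply Fin.ext
  have h1 := TabPerm.hom_word xM Suzo22880.rho rho22_xM w hw i
  rw [h1, Equiv.Perm.one_apply]
  exact h i.val i.isLt

theorem rels_hold : ∀ b ∈ Pres5.baseL, wprod xM b = 1 :=
  fun b hb => wprod_xM_eq_one b (fun s hs => lettersK_lt Pres5.hlet hb hs) (rels22 b hb)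

/-- the homomorphism of the presented cover to the group -/
noncomputable def phi : Pres5.Grp →* Cfsg.Spor.Suz := (Pres5.hliftG xM rels_hold).choose

theorem phi_v : ∀ s < 10, phi (Pres5.v s) = xM s := (Pres5.hliftG xM rels_hold).choose_spec

theorem phi_wprod (w : List ℕ) (hw : ∀ s ∈ w, s < 10) : phi (wprod Pres5.v w) = wprod xM w := by
  induction w with
  | nil => rw [wprod_nil, wprod_nil, map_one]
  | cons s w ih =>
    rw [wprod_cons, wprod_cons, map_mul, ih (fun t ht => hw t (List.mem_cons_of_mem _ ht)),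
      phi_v s (hw s List.mem_cons_self)]

/-- the word of the central element: an involution times an element of order three -/
def zw : List ℕ :=
  [0, 0, 4, 0, 0, 4, 0, 0, 4, 0, 0, 4, 0, 0, 4, 0, 0, 4, 0, 0, 4, 0, 0, 4, 0, 0, 4, 0, 0, 4, 0, 0, 6, 8, 7, 0, 0, 6, 8, 7, 0, 0, 6, 8, 7, 0, 0, 6, 8, 7, 0, 0, 6, 8, 7, 0, 0, 6, 8, 7, 0, 0, 6, 8, 7, 0, 0, 6, 8, 7]

theorem zw_lt : ∀ s ∈ zw, s < 10 := by decide

theorem zw_fix : ∀ i < 22880, applyW SuzQm22880.TT zw i = i := SuzQm22880.hextra0

end Cfsg.Agent.Lib.Helper12.SuzM.Model
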