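import Cfsg.Agent.Lib.Helper12.SuzM.ModelDefs

/-!
The tables of the letters on 22880 points, part 0 (generated, helper12).
-/

set_option autoImplicit false
set_option maxRecDepth 100000
set_option Elab.async false

namespace Cfsg.Agent.Lib.Helper12.SuzM.Model

open Cfsg.Agent.Lib.Helper12.TC Cfsg.Agent.Lib.Helper12.TC.Fn Cfsg.Agent.Lib.Helper12.TCG
  Cfsg.Agent.Lib.Helper12.M23Ext Cfsg.Agent.Lib.Helper12.SuzM

theorem c22_0_0 : colEqK SuzQm22880.TT Suzo22880.TT 0 (xw 0) 0 4000 = true := by
  decide +kernel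

theorem c22_0_1 : colEqK SuzQm22880.TT Suzo22880.TT 0 (xw 0) 4000 4000 = true := by
  decide +kernel

theorem c22_0_2 : colEqK SuzQm22880.TT Suzo22880.TT 0 (xw 0) 8000 4000 = true := by
  decide +kernel

theorem c22_0_3 : colEqK SuzQm22880.TT Suzo22880.TT 0 (xw 0) 12000 4000 = true := by
  decide +kernel

theorem c22_0_4 : colEqK SuzQm22880.TT Suzo22880.TT 0 (xw 0) 16000 4000 = true := by
  decide +kernel

theorem c22_0_5 : colEqK SuzQm22880.TT Suzo22880.TT 0 (xw 0) 20000 2880 = true := by
  decide +kernel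

theorem col22_0 : ∀ i < 22880, SuzQm22880.TT 0 i = applyW Suzo22880.TT (xw 0) i := by
  intro i hi
  by_cases h0 : i < 4000
  · exact colEqK_spec c22_0_0 i (by omega) (by omega)
  by_cases h1 : i < 8000
  · exact colEqK_spec c22_0_1 i (by omega) (by omega)
  by_cases h2 : i < 12000
  · exact colEqK_spec c22_0_2 i (by omega) (by omega)
  by_cases h3 : i < 16000
  · exact colEqK_spec c22_0_3 i (by omega) (by omega)
  by_cases h4 : i < 20000
  · exact colEqK_spec c22_0_4 i (by omega) (by omega)
  exact colEqK_spec c22_0_5 i (by omega) (by omega)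

theorem c22_1_0 : colEqK SuzQm22880.TT Suzo22880.TT 1 (xw 1) 0 4000 = true := by
  decide +kernel

theorem c22_1_1 : colEqK SuzQm22880.TT Suzo22880.TT 1 (xw 1) 4000 4000 = true := by
  decide +kernel

theorem c22_1_2 : colEqK SuzQm22880.TT Suzo22880.TT 1 (xw 1) 8000 4000 = true := by
  decide +kernel

theorem c22_1_3 : colEqK SuzQm22880.TT Suzo22880.TT 1 (xw 1) 12000 4000 = true := by
  decide +kernel

theorem c22_1_4 : colEqK SuzQm22880.TT Suzo22880.TT 1 (xw 1) 16000 4000 = true := by
  decide +kernel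

theorem c22_1_5 : colEqK SuzQm22880.TT Suzo22880.TT 1 (xw 1) 20000 2880 = true := by
  decide +kernel

theorem col22_1 : ∀ i < 22880, SuzQm22880.TT 1 i = applyW Suzo22880.TT (xw 1) i := by
  intro i hi
  by_cases h0 : i < 4000
  · exact colEqK_spec c22_1_0 i (by omega) (by omega)
  by_cases h1 : i < 8000
  · exact colEqK_spec c22_1_1 i (by omega) (by omega)
  by_cases h2 : i < 12000
  · exact colEqK_spec c22_1_2 i (by omega) (by omega)
  by_cases h3 : i < 16000
  · exact colEqK_spec c22_1_3 i (by omega) (by omega)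
  by_cases h4 : i < 20000
  · exact colEqK_spec c22_1_4 i (by omega) (by omega)
  exact colEqK_spec c22_1_5 i (by omega) (by omega)

end Cfsg.Agent.Lib.Helper12.SuzM.Model
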