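import Cfsg.Agent.Lib.Helper12.Ord.SuzOrder
import Cfsg.Agent.Lib.Helper12.M23Ext.TabPerm
import Cfsg.Agent.Lib.Helper12.SuzM.Pres5
import Cfsg.Agent.Lib.Helper12.TCG.SuzQm22880.TabT

/-!
Five elements of order seven of the presented group of Suzuki as words in the generators (generated, helper12).
-/

set_option autoImplicit false
set_option maxRecDepth 100000
set_option Elab.async false

namespace Cfsg.Agent.Lib.Helper12.SuzM.Model

open Cfsg.Agent.Lib.Helper12.TC Cfsg.Agent.Lib.Helper12.TC.Fn Cfsg.Agent.Lib.Helper12.TCG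
  Cfsg.Agent.Lib.Helper12.M23Ext Cfsg.Agent.Lib.Helper12.SuzM

/-- the generators of the presented group -/
noncomputable def gP (x : ℕ) : Cfsg.Spor.Suz :=
  PresentedGroup.mk (Cfsg.Spor.coxRelators Cfsg.Spor.Suz.edges ∪ {r | r ∈ Cfsg.Spor.Suz.extra})
    (FreeGroup.of (SuzPres.gen x))

/-- the ten letters as words in the generators -/
def xw : ℕ → List ℕ
  | 0 => [0, 1, 2, 1, 3, 2, 1, 3, 4]
  | 1 => [4, 3, 1, 2, 3, 1, 2, 1, 0]
  | 2 => [0, 1, 0, 0, 1, 2, 1, 3, 2, 1, 3, 4, 0, 1, 0]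
  | 3 => [0, 1, 0, 4, 3, 1, 2, 3, 1, 2, 1, 0, 0, 1, 0]
  | 4 => [0, 0, 1, 2, 1, 3, 2, 1, 3, 4, 0]
  | 5 => [0, 4, 3, 1, 2, 3, 1, 2, 1, 0, 0]
  | 6 => [5, 0, 1, 2, 1, 3, 2, 1, 3, 4, 5]
  | 7 => [5, 4, 3, 1, 2, 3, 1, 2, 1, 0, 5]
  | 8 => [6, 0, 1, 2, 1, 3, 2, 1, 3, 4, 6]
  | 9 => [6, 4, 3, 1, 2, 3, 1, 2, 1, 0, 6]
  | _ => []

/-- the ten letters as elements of the group -/
noncomputable def xM (s : ℕ) : Cfsg.Spor.Suz := wprod gP (xw s)

theorem xw_lt : ∀ s < 10, ∀ x ∈ xw s, x < 7 := by decide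

/-- a column of the first table is the image of a word in the second table, on a range of points -/
def colEqK (T1 T2 : ℕ → ℕ → ℕ) (s : ℕ) (w : List ℕ) (lo n : ℕ) : Bool :=
  allBelowK n (fun j => Nat.beq (T1 s (Nat.add lo j)) (applyW T2 w (Nat.add lo j)))

theorem colEqK_spec {T1 T2 : ℕ → ℕ → ℕ} {s : ℕ} {w : List ℕ} {lo n : ℕ} (h : colEqK T1 T2 s w lo n = true)
    (i : ℕ) (h1 : lo ≤ i) (h2 : i < lo + n) : T1 s i = applyW T2 w i := by
  have h3 := (allBelowK_iff n _).mp h (i - lo) (by omega)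
  have e : Nat.add lo (i - lo) = i := by show lo + (i - lo) = i; omega
  rw [e] at h3
  exact Nat.eq_of_beq_eq_true h3

end Cfsg.Agent.Lib.Helper12.SuzM.Model
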