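import Cfsg.Agent.Lib.Helper12.TCG.SuzQa6048.Rho
import Cfsg.Agent.Lib.Helper12.TCG.SuzQb200.Rho
import Cfsg.Agent.Lib.Helper12.TCG.SuzQc416.Rho
import Cfsg.Agent.Lib.Helper12.TCG.SuzQd5346.Rho
import Cfsg.Agent.Lib.Helper12.SuzM.Certs
import Cfsg.Agent.Lib.Helper12.Ord.SubPres

/-!
The group presented on the five elements of order seven has at most `5346 * 416 * 200 * 6048` elements: the subgroup
generated by the first generators has index `5346`, `416`, `200` in the group presented on five, four, three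
generators and is a quotient of the group presented on one generator less; the group presented on two generators
has `6048` elements (helper12).
-/

set_option autoImplicit false
set_option maxRecDepth 100000

namespace Cfsg.Agent.Lib.Helper12.SuzM.Order

open Cfsg.Agent.Lib.Helper12.TC Cfsg.Agent.Lib.Helper12.TCG Cfsg.Agent.Lib.Helper12.Ord
  Cfsg.Agent.Lib.Helper12.SuzM

/-- a group with a subgroup of index `n` which lies in the image of a group with at most `m` elements has at most
`n * m` elements -/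
theorem step {A B : Type} [Group A] [Group B] [Finite A] (ι : A →* B) (Hs : Subgroup B)
    (hle : Hs ≤ ι.range) (n m : ℕ) (hn : 0 < n) (hidx : Hs.index = n) (hm : Nat.card A ≤ m) :
    Finite B ∧ Nat.card B ≤ n * m := by
  have hfr : Finite ι.range := Finite.of_surjective _ ι.rangeRestrict_surjective
  have hcr : Nat.card ι.range ≤ m :=
    (Nat.card_le_card_of_surjective _ ι.rangeRestrict_surjective).trans hm
  have hinj : Function.Injective (Subgroup.inclusion hle) := Subgroup.inclusion_injective _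
  exact card_le_of_index Hs n m hn hidx (Finite.of_injective _ hinj)
    ((Nat.card_le_card_of_injective _ hinj).trans hcr)

theorem hs2_bot : SuzQa6048.Hs = ⊥ := by
  rw [SuzQa6048.hH, Subgroup.closure_eq_bot_iff]
  rintro γ ⟨w, hw, rfl⟩
  exact absurd hw List.not_mem_nil

theorem card2 : Finite Pres2.Grp ∧ Nat.card Pres2.Grp = 6048 :=
  card_of_index_bot SuzQa6048.Hs 6048 (by decide) SuzQa6048.rho_index hs2_bot

instance finite2 : Finite Pres2.Grp := card2.1

theorem base2_holds : ∀ b ∈ Pres2.baseL, wprod Pres3.v b = 1 :=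
  fun b hb => Pres3.hbase b (Certs.base2_sub b hb)

/-- the homomorphism from the group on two generators -/
noncomputable def iota2 : Pres2.Grp →* Pres3.Grp := (Pres2.hliftG Pres3.v base2_holds).choose

theorem iota2_v : ∀ s < 4, iota2 (Pres2.v s) = Pres3.v s :=
  (Pres2.hliftG Pres3.v base2_holds).choose_spec

theorem hs3_le : SuzQb200.Hs ≤ iota2.range := by
  rw [SuzQb200.hH, Subgroup.closure_le]
  rintro γ ⟨w, hw, rfl⟩
  have hw' : w = [0] ∨ w = [2] := by simpa [SuzQb200.sw] using hw
  rcases hw' with rfl | rfl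
  · exact ⟨Pres2.v 0, by rw [iota2_v 0 (by decide), wprod_cons, wprod_nil, mul_one]⟩
  · exact ⟨Pres2.v 2, by rw [iota2_v 2 (by decide), wprod_cons, wprod_nil, mul_one]⟩

theorem card3 : Finite Pres3.Grp ∧ Nat.card Pres3.Grp ≤ 1209600 := by
  have h := step iota2 SuzQb200.Hs hs3_le 200 6048 (by decide) SuzQb200.rho_index card2.2.le
  exact ⟨h.1, h.2.trans (by norm_num)⟩

instance finite3 : Finite Pres3.Grp := card3.1

theorem base3_holds : ∀ b ∈ Pres3.baseL, wprod Pres4.v b = 1 :=
  fun b hb => Pres4.hbase b (Certs.base3_sub b hb)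

/-- the homomorphism from the group on three generators -/
noncomputable def iota3 : Pres3.Grp →* Pres4.Grp := (Pres3.hliftG Pres4.v base3_holds).choose

theorem iota3_v : ∀ s < 6, iota3 (Pres3.v s) = Pres4.v s :=
  (Pres3.hliftG Pres4.v base3_holds).choose_spec

theorem hs4_le : SuzQc416.Hs ≤ iota3.range := by
  rw [SuzQc416.hH, Subgroup.closure_le]
  rintro γ ⟨w, hw, rfl⟩
  have hw' : w = [0] ∨ w = [2] ∨ w = [4] := by simpa [SuzQc416.sw] using hw
  rcases hw' with rfl | rfl | rfl
  · exact ⟨Pres3.v 0, by rw [iota3_v 0 (by decide), wprod_cons, wprod_nil, mul_one]⟩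
  · exact ⟨Pres3.v 2, by rw [iota3_v 2 (by decide), wprod_cons, wprod_nil, mul_one]⟩
  · exact ⟨Pres3.v 4, by rw [iota3_v 4 (by decide), wprod_cons, wprod_nil, mul_one]⟩

theorem card4 : Finite Pres4.Grp ∧ Nat.card Pres4.Grp ≤ 503193600 := by
  have h := step iota3 SuzQc416.Hs hs4_le 416 1209600 (by decide) SuzQc416.rho_index card3.2
  exact ⟨h.1, h.2.trans (by norm_num)⟩

instance finite4 : Finite Pres4.Grp := card4.1

theorem base4_holds : ∀ b ∈ Pres4.baseL, wprod Pres5.v b = 1 :=
  fun b hb => Pres5.hbase b (Certs.base4_sub b hb)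

/-- the homomorphism from the group on four generators -/
noncomputable def iota4 : Pres4.Grp →* Pres5.Grp := (Pres4.hliftG Pres5.v base4_holds).choose

theorem iota4_v : ∀ s < 8, iota4 (Pres4.v s) = Pres5.v s :=
  (Pres4.hliftG Pres5.v base4_holds).choose_spec

theorem hs5_le : SuzQd5346.Hs ≤ iota4.range := by
  rw [SuzQd5346.hH, Subgroup.closure_le]
  rintro γ ⟨w, hw, rfl⟩
  have hw' : w = [0] ∨ w = [2] ∨ w = [4] ∨ w = [6] := by simpa [SuzQd5346.sw] using hw
  rcases hw' with rfl | rfl | rfl | rfl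
  · exact ⟨Pres4.v 0, by rw [iota4_v 0 (by decide), wprod_cons, wprod_nil, mul_one]⟩
  · exact ⟨Pres4.v 2, by rw [iota4_v 2 (by decide), wprod_cons, wprod_nil, mul_one]⟩
  · exact ⟨Pres4.v 4, by rw [iota4_v 4 (by decide), wprod_cons, wprod_nil, mul_one]⟩
  · exact ⟨Pres4.v 6, by rw [iota4_v 6 (by decide), wprod_cons, wprod_nil, mul_one]⟩

theorem finite_card_le : Finite Pres5.Grp ∧ Nat.card Pres5.Grp ≤ 2690072985600 := by
  have h := step iota4 SuzQd5346.Hs hs5_le 5346 503193600 (by decide) SuzQd5346.rho_index card4.2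
  exact ⟨h.1, h.2.trans (by norm_num)⟩

instance finite5 : Finite Pres5.Grp := finite_card_le.1

end Cfsg.Agent.Lib.Helper12.SuzM.Order
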