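import Cfsg.Agent.Lib.Helper12.SuzM.Exist
import Cfsg.Agent.Lib.Helper21.SchurCyclic

/-!
The kernel of every finite stem extension of the group of Suzuki is an image of the cyclic group of order six: its
order is prime to seven, so the group presented on the five elements of order seven maps onto the extension, and the
kernel of the extension is the image of the kernel of the presented group (helper12).
-/

set_option autoImplicit false
set_option maxRecDepth 100000

namespace Cfsg.Agent.Lib.Helper12.SuzM.Upper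

open Cfsg.Agent.Lib.Helper12.TC Cfsg.Agent.Lib.Helper12.TCG Cfsg.Agent.Lib.Helper12.SuzM

theorem exists_surj (Γ : Type) [Group Γ] [Finite Γ] (σ : Γ →* Cfsg.Spor.Suz)
    (hσ : Cfsg.IsStemExtension σ) :
    ∃ π : Multiplicative (ZMod 6) →* σ.ker, Function.Surjective π := by
  haveI := Ord.SuzOrder.finite
  haveI : Fact (Nat.Prime 7) := ⟨by norm_num⟩
  have h7 : ¬ 7 ∣ Nat.card σ.ker := by
    apply QLift.not_dvd_card_ker_of_sq_not_dvd 7 _ σ hσ
    rw [Ord.SuzOrder.card_eq]
    norm_num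
  have hq : Nat.Coprime 7 (Nat.card σ.ker) := (Nat.Prime.coprime_iff_not_dvd (by norm_num)).mpr h7
  have hgen : Subgroup.closure {y : Cfsg.Spor.Suz | ∃ s < 2 * 5, y = Model.xM s} = ⊤ := Gen.xM_gen
  obtain ⟨ψ, hψ, hψv⟩ := QLift.exists_surj_of_coprime_stem σ hσ 7 hq 5 Pres5.baseL Pres5.hlet
    Certs.certs Certs.shape5 Certs.pow5 Certs.pair5 Model.xM Model.rels_hold hgen
  have hcomp : σ.comp ψ = Model.phi := by
    apply WPres.hom_ext
    intro s hs
    rw [MonoidHom.comp_apply, hψv s hs]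
    exact (Model.phi_v s hs).symm
  have hker := QLift.ker_eq_map σ Model.phi ψ hψ hcomp
  have hzmem : ψ Exist.z ∈ σ.ker := by
    rw [hker]
    exact ⟨Exist.z, Exist.phi_z, rfl⟩
  refine Cfsg.Agent.Lib.Helper21.exists_surj_of_cyclic 6 (⟨ψ Exist.z, hzmem⟩ : σ.ker) ?_ ?_
  · apply Subtype.ext
    rw [Subgroup.coe_pow, Subgroup.coe_one]
    show ψ Exist.z ^ 6 = 1
    calc ψ Exist.z ^ 6 = ψ (Exist.z ^ 6) := (map_pow ψ Exist.z 6).symm
      _ = ψ 1 := congrArg ψ Exist.z_pow_six
      _ = 1 := map_one ψ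
  · intro x
    have hx : (x : Γ) ∈ Model.phi.ker.map ψ := by
      rw [← hker]; exact x.2
    obtain ⟨u, hu, hux⟩ := hx
    obtain ⟨j, -, rfl⟩ := Exist.ker_cases u hu
    rw [Subgroup.mem_zpowers_iff]
    refine ⟨(j : ℤ), ?_⟩
    apply Subtype.ext
    rw [Subgroup.coe_zpow, zpow_natCast]
    show ψ Exist.z ^ j = x
    calc ψ Exist.z ^ j = ψ (Exist.z ^ j) := (map_pow ψ Exist.z j).symm
      _ = x := hux

end Cfsg.Agent.Lib.Helper12.SuzM.Upper
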